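import Groth.Agent.Lib.PuncSys7.Basic
import Groth.Agent.Lib.FormalSys.Quot
import Groth.Prelude.Def_Formal2

/-!
# Coherent formal modules on a punctured spectrum come from systems of finite modules
-/

set_option autoImplicit false
set_option linter.style.haveILetI false

universe u

open CategoryTheory CategoryTheory.Limits AlgebraicGeometry Opposite TopologicalSpace

namespace GrothLib.PuncSys7

open GrothLib.Punctured (puncFun)
open GrothLib.FormalSys

variable {A : Type u} [CommRing A] [IsNoetherianRing A] {𝔞 : Ideal A}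

local notation "UU" => LocCoh.puncturedOpen A 𝔞

/-- The sections over the open. -/
noncomputable def gsec (P : (↑UU : Scheme.{u}).Modules) : ModuleCat.{u} A :=
  (moduleSpecΓFunctor (R := CommRingCat.of A)).obj ((Scheme.Modules.pushforward (UU).ι).obj P)

/-- The map on sections. -/
noncomputable def gmap {P Q : (↑UU : Scheme.{u}).Modules} (φ : P ⟶ Q) : gsec P ⟶ gsec Q :=
  (moduleSpecΓFunctor (R := CommRingCat.of A)).map ((Scheme.Modules.pushforward (UU).ι).map φ)

/-- The comparison with the module itself. -/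
noncomputable def scounit (P : (↑UU : Scheme.{u}).Modules) : (puncFun 𝔞).obj (gsec P) ⟶ P :=
  Algz7.sectCounit UU P

theorem scounit_naturality {P Q : (↑UU : Scheme.{u}).Modules} (φ : P ⟶ Q) :
    (puncFun 𝔞).map (gmap φ) ≫ scounit Q = scounit P ≫ φ :=
  Algz7.sectCounit_naturality UU φ

theorem isIso_scounit (P : (↑UU : Scheme.{u}).Modules) [P.IsQuasicoherent] : IsIso (scounit P) :=
  Algz7.isIso_sectCounit UU P

theorem smul_gsec (P : (↑UU : Scheme.{u}).Modules) (a : A) (h : Formal.smulMod A P a = 0) (x : gsec P) :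
    a • x = 0 :=
  (Algz7.smul_sect_eq UU P a x).trans (by rw [h]; rfl)

/-- The inclusion of a submodule of the sections. -/
noncomputable abbrev incl {P : (↑UU : Scheme.{u}).Modules} (N : Submodule A (gsec P)) : ModuleCat.of A N ⟶ gsec P :=
  ModuleCat.ofHom (X := ↥N) (Y := ↑(gsec P)) N.subtype

/-- A finite submodule of sections modelling the module. -/
def Good {P : (↑UU : Scheme.{u}).Modules} (N : Submodule A (gsec P)) : Prop :=
  N.FG ∧ IsIso ((puncFun 𝔞).map (incl N) ≫ scounit P)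

theorem exists_good {P : (↑UU : Scheme.{u}).Modules} (hP : Coh.IsCoh P) : ∃ N : Submodule A (gsec P), Good N := by
  obtain ⟨N₀, hfin, ⟨e⟩⟩ := Punctured.exists_finite_puncFun_iso 𝔞 P hP
  let ψ : (tilde.functor (CommRingCat.of A)).obj N₀ ⟶ (Scheme.Modules.pushforward (UU).ι).obj P :=
    (Scheme.Modules.restrictAdjunction (UU).ι).homEquiv _ _ e.hom
  let φ : N₀ ⟶ gsec P := (tilde.adjunction (R := CommRingCat.of A)).homEquiv N₀ _ ψ
  have hφ : (puncFun 𝔞).map φ ≫ scounit P = e.hom := by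
    have h1 : (tilde.functor (CommRingCat.of A)).map φ ≫
        (tilde.adjunction (R := CommRingCat.of A)).counit.app _ = ψ := by
      exact ((tilde.adjunction (R := CommRingCat.of A)).homEquiv_counit _ _ φ).symm.trans (Equiv.symm_apply_apply _ _)
    have h2 : (Scheme.Modules.restrictFunctor (UU).ι).map ψ ≫
        (Scheme.Modules.restrictAdjunction (UU).ι).counit.app P = e.hom := by
      exact ((Scheme.Modules.restrictAdjunction (UU).ι).homEquiv_counit _ _ ψ).symm.trans (Equiv.symm_apply_apply _ _)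
    refine Eq.trans ?_ h2
    rw [← h1]
    exact ((Category.assoc _ _ _).symm.trans (congrArg (· ≫ _) ((Scheme.Modules.restrictFunctor (UU).ι).map_comp _ _).symm))
  let N : Submodule A (gsec P) := LinearMap.range φ.hom
  haveI : Module.Finite A N₀ := hfin
  let r : N₀ ⟶ ModuleCat.of A N := ModuleCat.ofHom φ.hom.rangeRestrict
  haveI : Epi r := (ModuleCat.epi_iff_surjective r).2 φ.hom.surjective_rangeRestrict
  haveI : Epi ((puncFun 𝔞).map r) :=
    (Punctured.puncFun_shortExact 𝔞 (ShortComplex.mk (kernel.ι r) r (kernel.condition r))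
      { exact := ShortComplex.exact_of_f_is_kernel _ (kernelIsKernel r) }).epi_g
  have hri : (puncFun 𝔞).map r ≫ ((puncFun 𝔞).map (incl N) ≫ scounit P) = e.hom := by
    rw [← Category.assoc, ← Functor.map_comp, show r ≫ incl N = φ from ModuleCat.hom_ext (LinearMap.ext fun _ => rfl), hφ]
  haveI : IsIso ((puncFun 𝔞).map r ≫ ((puncFun 𝔞).map (incl N) ≫ scounit P)) := by
    rw [hri]; infer_instance
  haveI : Mono ((puncFun 𝔞).map r) := mono_of_mono _ ((puncFun 𝔞).map (incl N) ≫ scounit P)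
  haveI : IsIso ((puncFun 𝔞).map r) := isIso_of_mono_of_epi _
  refine ⟨N, ?_, IsIso.of_isIso_comp_left ((puncFun 𝔞).map r) _⟩
  show (LinearMap.range φ.hom).FG
  rw [LinearMap.range_eq_map]
  exact Module.Finite.fg_top.map φ.hom

theorem exists_good_map_le {P Q : (↑UU : Scheme.{u}).Modules} (hP : Coh.IsCoh P) (hQ : Coh.IsCoh Q) (τ : P ⟶ Q)
    (N : Submodule A (gsec Q)) (hN : Good N) :
    ∃ M : Submodule A (gsec P), Good M ∧ M ≤ N.comap (gmap τ).hom := by
  classical
  haveI := hQ.1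
  haveI := hP.1
  haveI := hN.2
  haveI := isIso_scounit Q
  haveI : IsIso ((puncFun 𝔞).map (incl N)) := IsIso.of_isIso_comp_right _ (scounit Q)
  obtain ⟨M₀, hM₀⟩ := exists_good hP
  obtain ⟨S, hS⟩ := hM₀.1
  choose m hm using fun y => (torsion_of_isIso (𝔞 := 𝔞) (incl N)).2 y
  let k := S.sup fun s => m ((gmap τ).hom s)
  have hk : ∀ r ∈ 𝔞 ^ k, ∀ x ∈ M₀, r • x ∈ M₀ ⊓ N.comap (gmap τ).hom := by
    intro r hr x hx
    refine ⟨M₀.smul_mem r hx, ?_⟩
    show (gmap τ).hom (r • x) ∈ N
    rw [map_smul]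
    rw [← hS] at hx
    induction hx using Submodule.span_induction with
    | mem z hz =>
      obtain ⟨⟨w, hw⟩, hwe⟩ := hm ((gmap τ).hom z) r (Ideal.pow_le_pow_right (Finset.le_sup (f := fun s => m ((gmap τ).hom s)) hz) hr)
      exact (show w = _ from hwe) ▸ hw
    | zero => rw [map_zero, smul_zero]; exact zero_mem _
    | add a b _ _ ha hb => rw [map_add, smul_add]; exact add_mem ha hb
    | smul c a _ ha => rw [map_smul, smul_comm]; exact N.smul_mem c ha
  let M : Submodule A (gsec P) := M₀ ⊓ N.comap (gmap τ).hom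
  haveI hiso := isIso_puncFun_incl (S := gsec P) (inf_le_left : M ≤ M₀) hk
  haveI := hM₀.2
  refine ⟨M, ⟨?_, ?_⟩, inf_le_right⟩
  · haveI : IsNoetherian A M₀ := isNoetherian_of_fg_of_noetherian _ hM₀.1
    have := Submodule.FG.map M₀.subtype (IsNoetherian.noetherian (M.comap M₀.subtype))
    rwa [Submodule.map_comap_subtype, inf_eq_right.2 inf_le_left] at this
  · have : (puncFun 𝔞).map (incl M) ≫ scounit P =
        (puncFun 𝔞).map (ModuleCat.ofHom (Submodule.inclusion (inf_le_left : M ≤ M₀))) ≫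
          ((puncFun 𝔞).map (incl M₀) ≫ scounit P) := by
      rw [← Category.assoc ((puncFun 𝔞).map (ModuleCat.ofHom _)), ← Functor.map_comp]
      rfl
    rw [this]
    infer_instance

theorem exists_system (I : Ideal A) (F : ℕᵒᵖ ⥤ (↑UU : Scheme.{u}).Modules) (hF : Formal.IsCohFormal I F) :
    ∃ (M : ℕ → Type u) (_ : ∀ n, AddCommGroup (M n)) (_ : ∀ n, Module A (M n)) (g : ∀ n, M (n + 1) →ₗ[A] M n),
      (∀ n, Module.Finite A (M n)) ∧ (∀ n, I ^ (n + 1) • (⊤ : Submodule A (M n)) = ⊥) ∧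
      (∀ n (x : M (n + 1)), g n x = 0 → ∃ m : ℕ, ∀ a ∈ 𝔞 ^ m, a • x ∈ I ^ (n + 1) • (⊤ : Submodule A (M (n + 1)))) ∧
      (∀ n (y : M n), ∃ m : ℕ, ∀ a ∈ 𝔞 ^ m, a • y ∈ LinearMap.range (g n)) ∧
      Nonempty (F ≅ Functor.ofOpSequence
        (X := fun n => (Scheme.Modules.restrictFunctor (UU).ι).obj (Formal2.tmod A (M n)))
        (fun n => (Scheme.Modules.restrictFunctor (UU).ι).map (Formal2.tmodMap A (g n)))) := by
  classical
  let τ : ∀ n, F.obj (op (n + 1)) ⟶ F.obj (op n) := fun n => F.map (homOfLE (Nat.le_succ n)).op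
  choose step hgood hle using fun (n : ℕ) (N : {N : Submodule A (gsec (F.obj (op n))) // Good N}) =>
    exists_good_map_le (hF.1 (n + 1)) (hF.1 n) (τ n) N.1 N.2
  let Ns : ∀ n, {N : Submodule A (gsec (F.obj (op n))) // Good N} :=
    Nat.rec ⟨_, (exists_good (hF.1 0)).choose_spec⟩ fun n N => ⟨step n N, hgood n N⟩
  have hNs : ∀ n, (Ns (n + 1)).1 ≤ (Ns n).1.comap (gmap (τ n)).hom := fun n => hle n (Ns n)
  let M : ℕ → Type u := fun n => ↥(Ns n).1
  let g : ∀ n, M (n + 1) →ₗ[A] M n := fun n => (gmap (τ n)).hom.restrict (hNs n)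
  let e : ∀ n, (puncFun 𝔞).obj (ModuleCat.of A (M n)) ≅ F.obj (op n) := fun n =>
    @asIso _ _ _ _ ((puncFun 𝔞).map (incl (Ns n).1) ≫ scounit (F.obj (op n))) (Ns n).2.2
  have hcomm : ∀ n, (puncFun 𝔞).map (ModuleCat.ofHom (g n)) ≫ (e n).hom = (e (n + 1)).hom ≫ τ n := fun n => by
    show (puncFun 𝔞).map (ModuleCat.ofHom (g n)) ≫ (puncFun 𝔞).map (incl (Ns n).1) ≫ _ =
      ((puncFun 𝔞).map (incl (Ns (n + 1)).1) ≫ _) ≫ τ n
    rw [Category.assoc, ← scounit_naturality (τ n), ← Category.assoc, ← Category.assoc,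
      ← Functor.map_comp]
    congr 1
    exact (congrArg (puncFun 𝔞).map (ModuleCat.hom_ext (LinearMap.ext fun _ => rfl))).trans ((puncFun 𝔞).map_comp (incl (Ns (n + 1)).1) (gmap (τ n)))
  have hfin : ∀ n, Module.Finite A (M n) := fun n => Module.Finite.iff_fg.2 (Ns n).2.1
  have hkill : ∀ n, ∀ a ∈ I ^ (n + 1), ∀ x : gsec (F.obj (op n)), a • x = 0 := fun n a ha x =>
    smul_gsec _ a (hF.2.1 n a ha) x
  refine ⟨M, fun n => inferInstanceAs (AddCommGroup ↥(Ns n).1), fun n => inferInstanceAs (Module A ↥(Ns n).1), g,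
    hfin, fun n => ?_, ?_, ?_, ?_⟩
  · rw [eq_bot_iff, Submodule.smul_le]
    exact fun a ha x _ => (Submodule.mem_bot A).2 (Subtype.ext (hkill n a ha x.1))
  · intro n x hx
    let S := I ^ (n + 1) • (⊤ : Submodule A (M (n + 1)))
    let Q : ModuleCat.{u} A := ModuleCat.of A (M (n + 1) ⧸ S)
    let q : ModuleCat.of A (M (n + 1)) ⟶ Q := ModuleCat.ofHom S.mkQ
    have hS : S ≤ LinearMap.ker (g n) := by
      show I ^ (n + 1) • ⊤ ≤ _
      rw [Submodule.smul_le]
      intro a ha z _
      rw [LinearMap.mem_ker, map_smul]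
      exact Subtype.ext (hkill n a ha _)
    let gb : Q ⟶ ModuleCat.of A (M n) := ModuleCat.ofHom (S.liftQ (g n) hS)
    have hqg : q ≫ gb = ModuleCat.ofHom (g n) := rfl
    haveI : Epi q := (ModuleCat.epi_iff_surjective q).2 (Submodule.mkQ_surjective _)
    haveI : Epi ((puncFun 𝔞).map q) :=
      (Punctured.puncFun_shortExact 𝔞 (ShortComplex.mk (kernel.ι q) q (kernel.condition q))
        { exact := ShortComplex.exact_of_f_is_kernel _ (kernelIsKernel q) }).epi_g
    have hπ : IsQuot (I ^ (n + 1)) (τ n) := hF.2.2 n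
    obtain ⟨χ, hχ⟩ := hπ.exists_desc' ((e (n + 1)).inv ≫ (puncFun 𝔞).map q)
      (killedBy_puncFun 𝔞 Q fun r hr z => by
        obtain ⟨z, rfl⟩ := S.mkQ_surjective z
        rw [← map_smul]
        exact (Submodule.Quotient.mk_eq_zero _).2 (Submodule.smul_mem_smul hr trivial))
    haveI := hπ.epi
    haveI : IsIso ((puncFun 𝔞).map gb ≫ (e n).hom) := by
      refine ⟨χ, ?_, ?_⟩
      · rw [← cancel_epi ((puncFun 𝔞).map q), ← Category.assoc, ← Category.assoc, ← Functor.map_comp, hqg,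
          hcomm, Category.assoc, hχ, Iso.hom_inv_id_assoc, Category.comp_id]
      · rw [← cancel_epi (τ n), ← Category.assoc, hχ, Category.assoc, ← Category.assoc ((puncFun 𝔞).map q),
          ← Functor.map_comp, hqg, hcomm, Iso.inv_hom_id_assoc, Category.comp_id]
    haveI : IsIso ((puncFun 𝔞).map gb) := IsIso.of_isIso_comp_right _ (e n).hom
    obtain ⟨m, hm⟩ := (torsion_of_isIso (𝔞 := 𝔞) gb).1 (q.hom x) hx
    exact ⟨m, fun a ha => (Submodule.Quotient.mk_eq_zero _).1 (hm a ha)⟩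
  · intro n y
    let p : ModuleCat.of A (M n) ⟶ ModuleCat.of A (M n ⧸ LinearMap.range (g n)) :=
      ModuleCat.ofHom (LinearMap.range (g n)).mkQ
    haveI : Epi p := (ModuleCat.epi_iff_surjective p).2 (Submodule.mkQ_surjective _)
    haveI : Epi ((puncFun 𝔞).map p) :=
      (Punctured.puncFun_shortExact 𝔞 (ShortComplex.mk (kernel.ι p) p (kernel.condition p))
        { exact := ShortComplex.exact_of_f_is_kernel _ (kernelIsKernel p) }).epi_g
    haveI : Epi (τ n) := IsQuot.epi (hF.2.2 n)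
    haveI : Epi ((puncFun 𝔞).map (ModuleCat.ofHom (g n))) := by
      rw [show (puncFun 𝔞).map (ModuleCat.ofHom (g n)) = (e (n + 1)).hom ≫ τ n ≫ (e n).inv by
        rw [← Category.assoc, ← hcomm, Category.assoc, Iso.hom_inv_id, Category.comp_id]]
      infer_instance
    have h0 : (puncFun 𝔞).map p = 0 := by
      rw [← cancel_epi ((puncFun 𝔞).map (ModuleCat.ofHom (g n))), comp_zero, ← Functor.map_comp,
        show ModuleCat.ofHom (g n) ≫ p = 0 from ModuleCat.hom_ext (LinearMap.ext fun z =>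
          (Submodule.Quotient.mk_eq_zero _).2 ⟨z, rfl⟩), Functor.map_zero]
    obtain ⟨m, hm⟩ := torsion_of_isZero 𝔞 _ (IsZero.of_epi_eq_zero _ h0) (p.hom y)
    exact ⟨m, fun r hr => (Submodule.Quotient.mk_eq_zero _).1 (hm r hr)⟩
  · let β : Functor.ofOpSequence (X := fun n => (Scheme.Modules.restrictFunctor (UU).ι).obj (Formal2.tmod A (M n)))
        (fun n => (Scheme.Modules.restrictFunctor (UU).ι).map (Formal2.tmodMap A (g n))) ⟶ F :=
      NatTrans.ofOpSequence (fun n => (e n).hom) fun n => by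
        rw [Functor.ofOpSequence_map_homOfLE_succ]
        exact hcomm n
    have hall : ∀ k, IsIso (β.app k) := fun k => inferInstanceAs (IsIso (e k.unop).hom)
    haveI := NatIso.isIso_of_isIso_app β
    exact ⟨(asIso β).symm⟩

end GrothLib.PuncSys7
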