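import Groth.Agent.Lib.Punctured.LocalCohom
import Groth.Agent.Lib.Punctured.CoherentCohom
import Groth.Agent.Lib.Algz7.Sect
import Groth.Agent.Lib.Algz7.TildeSys
import Groth.Agent.Lib.Algz7.KerCoker
import Groth.Agent.Lib.CFEquiv7.Killed

/-!
# Finite modules modelling coherent modules on a punctured spectrum
-/

set_option autoImplicit false
set_option linter.style.haveILetI false

universe u

open CategoryTheory CategoryTheory.Limits AlgebraicGeometry Opposite TopologicalSpace

namespace GrothLib.PuncSys7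

open GrothLib.Punctured (puncFun)

variable {A : Type u} [CommRing A] [IsNoetherianRing A] (𝔞 : Ideal A)

local notation "UU" => LocCoh.puncturedOpen A 𝔞

/-- Killed modules stay killed on the open. -/
theorem killedBy_puncFun {J : Ideal A} (N : ModuleCat.{u} A) (h : ∀ r ∈ J, ∀ x : N, r • x = 0) :
    Formal.KilledBy J ((puncFun 𝔞).obj N) := by
  letI := Algz7.specOverSelf A
  have h1 : Formal.KilledBy J ((tilde.functor (CommRingCat.of A)).obj N) := Algz7.killedBy_tilde N h
  have hf : (UU).ι ≫ (Spec (CommRingCat.of A) ↘ Spec (CommRingCat.of A)) = (↑UU : Scheme.{u}) ↘ Spec (CommRingCat.of A) :=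
    Category.comp_id _
  exact Algz7.killedBy_iso ((Scheme.Modules.restrictFunctorIsoPullback (UU).ι).app _).symm
    (Algz7.killedBy_pullback (UU).ι hf h1)

/-- Modules killed by a power of the ideal vanish on the open. -/
theorem isZero_puncFun {m : ℕ} (N : ModuleCat.{u} A) (h : ∀ r ∈ 𝔞 ^ m, ∀ x : N, r • x = 0) :
    IsZero ((puncFun 𝔞).obj N) := by
  refine (IsZero.iff_id_eq_zero _).2 (FormalFun.hom_ext_stalkLin fun y v => ?_)
  rw [QCoh.stalkLin_id, FormalFun.stalkLin_zero]
  have hy : ¬ ((𝔞 : Set A) ⊆ (((↑UU : Scheme.{u}) ↘ Spec (CommRingCat.of A)) y).asIdeal) := y.2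
  obtain ⟨g, hg, hgy⟩ := Set.not_subset.1 hy
  have hu : IsUnit (FormalFun.toStalk A y g) := by
    have := ((↑UU : Scheme.{u}).toRingedSpace.mem_basicOpen (U := ⊤) _ y trivial).1
      ((CFEquiv7.mem_basicOpen_toGlobal_iff g y).2 hgy)
    exact this
  have h0 := FormalExist7.killedBy_stalk (killedBy_puncFun 𝔞 N h) y (Ideal.pow_mem_pow hg m) v
  rw [map_pow] at h0
  exact (hu.pow m).smul_eq_zero.1 h0

/-- Modules vanishing on the open are torsion. -/
theorem torsion_of_isZero (N : ModuleCat.{u} A) (h : IsZero ((puncFun 𝔞).obj N)) (x : N) :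
    ∃ m : ℕ, ∀ r ∈ 𝔞 ^ m, r • x = 0 := by
  refine (Punctured.toOpen_eq_zero_iff 𝔞 N x).1 ((Punctured.topEquiv 𝔞 N).symm.injective ?_)
  have hid : ∀ s : Γ((puncFun 𝔞).obj N, ⊤), s = 0 := fun s => by
    have := congrArg (fun φ => Scheme.Modules.Hom.app φ ⊤ s) ((IsZero.iff_id_eq_zero _).1 h)
    simpa using this
  exact (hid _).trans (hid _).symm

variable {𝔞}

/-- Torsion kernel and cokernel of a map inducing an isomorphism on the open. -/
theorem torsion_of_isIso {M N : ModuleCat.{u} A} (g : M ⟶ N) [IsIso ((puncFun 𝔞).map g)] :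
    (∀ x : M, g.hom x = 0 → ∃ m : ℕ, ∀ r ∈ 𝔞 ^ m, r • x = 0) ∧
      ∀ y : N, ∃ m : ℕ, ∀ r ∈ 𝔞 ^ m, r • y ∈ LinearMap.range g.hom := by
  constructor
  · intro x hx
    let K : ModuleCat.{u} A := ModuleCat.of A (LinearMap.ker g.hom)
    let i : K ⟶ M := ModuleCat.ofHom (LinearMap.ker g.hom).subtype
    haveI : Mono i := (ModuleCat.mono_iff_injective i).2 (LinearMap.ker g.hom).injective_subtype
    haveI : Mono ((puncFun 𝔞).map i) :=
      (Punctured.puncFun_shortExact 𝔞 (ShortComplex.mk i (cokernel.π i) (cokernel.condition i))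
        { exact := ShortComplex.exact_of_g_is_cokernel _ (cokernelIsCokernel i) }).mono_f
    have h0 : (puncFun 𝔞).map i = 0 := by
      rw [← cancel_mono ((puncFun 𝔞).map g), zero_comp, ← Functor.map_comp,
        show i ≫ g = 0 from ModuleCat.hom_ext (LinearMap.ext fun z => z.2), Functor.map_zero]
    obtain ⟨m, hm⟩ := torsion_of_isZero 𝔞 K (IsZero.of_mono_eq_zero _ h0) ⟨x, hx⟩
    exact ⟨m, fun r hr => congrArg Subtype.val (hm r hr)⟩
  · intro y
    let C : ModuleCat.{u} A := ModuleCat.of A (N ⧸ LinearMap.range g.hom)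
    let p : N ⟶ C := ModuleCat.ofHom (LinearMap.range g.hom).mkQ
    haveI : Epi p := (ModuleCat.epi_iff_surjective p).2 (Submodule.mkQ_surjective _)
    haveI : Epi ((puncFun 𝔞).map p) :=
      (Punctured.puncFun_shortExact 𝔞 (ShortComplex.mk (kernel.ι p) p (kernel.condition p))
        { exact := ShortComplex.exact_of_f_is_kernel _ (kernelIsKernel p) }).epi_g
    have h0 : (puncFun 𝔞).map p = 0 := by
      rw [← cancel_epi ((puncFun 𝔞).map g), comp_zero, ← Functor.map_comp,
        show g ≫ p = 0 from ModuleCat.hom_ext (LinearMap.ext fun z =>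
          (Submodule.Quotient.mk_eq_zero _).2 ⟨z, rfl⟩), Functor.map_zero]
    obtain ⟨m, hm⟩ := torsion_of_isZero 𝔞 C (IsZero.of_epi_eq_zero _ h0) (p.hom y)
    exact ⟨m, fun r hr => (Submodule.Quotient.mk_eq_zero _).1 (hm r hr)⟩

/-- A submodule with cokernel killed by a power of the ideal is the whole on the open. -/
theorem isIso_puncFun_incl {S : ModuleCat.{u} A} {M N : Submodule A S} (h : M ≤ N) {m : ℕ}
    (hm : ∀ r ∈ 𝔞 ^ m, ∀ x ∈ N, r • x ∈ M) :
    IsIso ((puncFun 𝔞).map (ModuleCat.ofHom (Submodule.inclusion h))) := by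
  let i : ModuleCat.of A M ⟶ ModuleCat.of A N := ModuleCat.ofHom (Submodule.inclusion h)
  let C : ModuleCat.{u} A := ModuleCat.of A (N ⧸ LinearMap.range (Submodule.inclusion h))
  let p : ModuleCat.of A N ⟶ C := ModuleCat.ofHom (LinearMap.range (Submodule.inclusion h)).mkQ
  have hip : i ≫ p = 0 := ModuleCat.hom_ext (LinearMap.ext fun z => (Submodule.Quotient.mk_eq_zero _).2 ⟨z, rfl⟩)
  haveI : Mono i := (ModuleCat.mono_iff_injective i).2 (Submodule.inclusion_injective h)
  haveI : Epi p := (ModuleCat.epi_iff_surjective p).2 (Submodule.mkQ_surjective _)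
  have hS : (ShortComplex.mk i p hip).ShortExact :=
    { exact := (ShortComplex.ShortExact.moduleCat_exact_iff_function_exact _).2
        (LinearMap.exact_map_mkQ_range _) }
  have hT := Punctured.puncFun_shortExact 𝔞 _ hS
  have hz : IsZero ((puncFun 𝔞).obj C) := isZero_puncFun 𝔞 (m := m) C fun r hr z => by
    obtain ⟨⟨x, hx⟩, rfl⟩ := Submodule.mkQ_surjective _ z
    rw [← map_smul]
    exact (Submodule.Quotient.mk_eq_zero _).2 ⟨⟨r • x, hm r hr x hx⟩, Subtype.ext rfl⟩
  exact hT.isIso_f_iff.2 hz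

end GrothLib.PuncSys7
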